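import Groth.Agent.L00.ClassResLeft
import Groth.Prelude.Def_Wider
import Mathlib.CategoryTheory.Limits.Shapes.ConcreteCategory
import Mathlib.Algebra.Homology.Double
import Mathlib.Algebra.Homology.DerivedCategory.TStructure
import Mathlib.Algebra.Homology.Refinements
import Mathlib.Algebra.Category.ModuleCat.Kernels
import Mathlib.Algebra.Category.ModuleCat.Projective
import Mathlib.Algebra.Category.ModuleCat.Subobject
import Mathlib.Algebra.Homology.Embedding.CochainComplex
import Mathlib.Algebra.Category.ModuleCat.Adjunctions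
import Mathlib.RingTheory.Noetherian.Basic

/-! Two-term representatives of objects of `D(R)`. -/

universe u

open CategoryTheory CategoryTheory.Limits HomologicalComplex

set_option backward.defeqAttrib.useBackward true
set_option backward.isDefEq.respectTransparency false
attribute [local instance] HasDerivedCategory.standard
namespace Groth.L10.TwoTerm

variable {R : Type u} [CommRing R]

theorem isGE_of_two {K : Dual.D R} (hK : ∀ i : ℤ, i ≠ -1 → i ≠ 0 → Subsingleton (Dual.HD R K i)) :
    K.IsGE (-1) ∧ K.IsLE 0 :=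
  ⟨(DerivedCategory.isGE_iff K (-1)).2 fun i hi => ModuleCat.isZero_of_iff_subsingleton.2 (hK i (by omega) (by omega)),
    (DerivedCategory.isLE_iff K 0).2 fun i hi => ModuleCat.isZero_of_iff_subsingleton.2 (hK i (by omega) (by omega))⟩

theorem exists_two_term_free (K : Dual.D R) (hK : ∀ i : ℤ, i ≠ -1 → i ≠ 0 → Subsingleton (Dual.HD R K i)) :
    ∃ E : CochainComplex (ModuleCat.{u} R) ℤ, E.IsStrictlyGE (-1) ∧ E.IsStrictlyLE 0 ∧ Module.Free R (E.X 0) ∧
      Nonempty (DerivedCategory.Q.obj E ≅ K) := by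
  obtain ⟨hGE, hLE⟩ := isGE_of_two hK
  obtain ⟨K₀, hK₀, ⟨e⟩⟩ := DerivedCategory.exists_iso_Q_obj_of_isLE K 0
  obtain ⟨P, α, hP, hPf, -, hq⟩ := Groth.L00.ClassResLeft.exists_res
    (fun Y : ModuleCat.{u} R => Module.Free R Y)
    ⟨ModuleCat.of R PUnit.{u + 1}, ModuleCat.isZero_of_subsingleton _, inferInstance⟩
    (fun X => ⟨ModuleCat.of R (X →₀ R), ModuleCat.ofHom (Finsupp.linearCombination R id), inferInstance,
      (ModuleCat.epi_iff_surjective _).2 fun x => ⟨Finsupp.single x 1, by simp⟩⟩) K₀ 0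
  have : P.IsGE (-1) := by
    rw [CochainComplex.isGE_iff]
    intro i hi
    rw [exactAt_iff_isZero_homology]
    exact (DerivedCategory.isZero_of_isGE K (-1) i hi).of_iso
      ((asIso (homologyMap α i)) ≪≫ ((DerivedCategory.homologyFunctorFactors (ModuleCat.{u} R) i).app K₀).symm ≪≫
        (DerivedCategory.homologyFunctor (ModuleCat.{u} R) i).mapIso e.symm)
  have hπ : QuasiIso (P.πTruncGE (-1)) := by
    rw [quasiIso_iff]
    intro i
    by_cases hi : -1 ≤ i
    · exact CochainComplex.quasiIsoAt_πTruncGE _ _ _ hi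
    · rw [quasiIsoAt_iff_exactAt' _ _ (CochainComplex.exactAt_of_isGE _ (-1) i (by omega))]
      exact CochainComplex.exactAt_of_isGE _ (-1) i (by omega)
  have hX : ∀ i : ℤ, -1 < i → Nonempty ((P.truncGE (-1)).X i ≅ P.X i) := fun i hi => ⟨P.truncGEXIso (-1) i hi⟩
  refine ⟨P.truncGE (-1), inferInstance, ?_, ?_, ⟨?_⟩⟩
  · rw [CochainComplex.isStrictlyLE_iff]
    intro i hi
    exact (P.isZero_of_isStrictlyLE 0 i hi).of_iso (hX i (by omega)).some
  · have := hPf 0
    exact Module.Free.of_equiv (hX 0 (by omega)).some.toLinearEquiv.symm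
  · exact (asIso (DerivedCategory.Q.map (P.πTruncGE (-1)))).symm ≪≫ asIso (DerivedCategory.Q.map α) ≪≫ e.symm

theorem exists_two_term_finite [IsNoetherianRing R] (K : Dual.D R)
    (hK : ∀ i : ℤ, i ≠ -1 → i ≠ 0 → Subsingleton (Dual.HD R K i))
    (h1 : Module.Finite R (Dual.HD R K (-1))) (h0 : Module.Finite R (Dual.HD R K 0)) :
    ∃ E : CochainComplex (ModuleCat.{u} R) ℤ, E.IsStrictlyGE (-1) ∧ E.IsStrictlyLE 0 ∧ Module.Free R (E.X 0) ∧
      Module.Finite R (E.X 0) ∧ Module.Finite R (E.X (-1)) ∧ Nonempty (DerivedCategory.Q.obj E ≅ K) := by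
  obtain ⟨E, hE1, hE2, -, ⟨e⟩⟩ := exists_two_term_free K hK
  let eH : ∀ i, (E.homology i : Type u) ≃ₗ[R] Dual.HD R K i := fun i =>
    (((DerivedCategory.homologyFunctorFactors (ModuleCat.{u} R) i).app E).symm ≪≫
      (DerivedCategory.homologyFunctor (ModuleCat.{u} R) i).mapIso e).toLinearEquiv
  have hE0 : E.d 0 1 = 0 := (E.isZero_of_isStrictlyLE 0 1 (by omega)).eq_of_tgt _ _
  have hE3 : E.d (-2) (-1) = 0 := (E.isZero_of_isStrictlyGE (-1) (-2) (by omega)).eq_of_src _ _
  -- generators of `H⁰`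
  have := Module.Finite.equiv (eH 0).symm
  obtain ⟨n, φ, hφ⟩ : ∃ (n : ℕ) (φ : ModuleCat.of R (Fin n → R) ⟶ E.X 0), Epi (biprod.desc φ (E.d (-1) 0)) := by
    obtain ⟨n, g, hg⟩ := Module.Finite.exists_fin' R (E.homology 0)
    have : Projective (ModuleCat.of R (Fin n → R)) := inferInstance
    have hc : ∀ {T : ModuleCat.{u} R} (y : T ⟶ E.X 0), y ≫ E.d 0 1 = 0 := fun y => by rw [hE0, comp_zero]
    have : Epi (ModuleCat.ofHom g) := (ModuleCat.epi_iff_surjective _).2 hg
    let c := Projective.factorThru (ModuleCat.ofHom g) (E.homologyπ 0)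
    refine ⟨n, c ≫ E.iCycles 0, ?_⟩
    rw [epi_iff_surjective_up_to_refinements]
    intro T y
    obtain ⟨T₁, e₁, _, a, ha⟩ := surjective_up_to_refinements_of_epi (ModuleCat.ofHom g)
      (E.liftCycles y 1 (by simp) (hc y) ≫ E.homologyπ 0)
    obtain ⟨T₂, e₂, _, b, hb⟩ := (E.comp_homologyπ_eq_iff_up_to_refinements (-1) 0 (by simp)
      (e₁ ≫ E.liftCycles y 1 (by simp) (hc y)) (a ≫ c)).1 (by
        rw [Category.assoc, ha, Category.assoc, Projective.factorThru_comp])
    refine ⟨T₂, e₂ ≫ e₁, inferInstance, biprod.lift (e₂ ≫ a) b, ?_⟩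
    have := hb =≫ E.iCycles 0
    simp only [Category.assoc, Preadditive.add_comp, liftCycles_i, toCycles_i] at this
    simp [biprod.lift_desc, this]
  let L := pullback φ (E.d (-1) 0)
  have h01 : (ComplexShape.up ℤ).Rel (-1 : ℤ) 0 := by simp
  let E' := double (pullback.fst φ (E.d (-1) 0)) h01
  have hne : (-1 : ℤ) ≠ 0 := by omega
  let ψ : E' ⟶ E := mkHomFromDouble h01 hne (pullback.snd φ (E.d (-1) 0)) φ pullback.condition.symm
    (fun k hk => by
      obtain rfl : k = 1 := by simp at hk; omega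
      rw [hE0, comp_zero])
  have hzero : ∀ k : ℤ, k ≠ -1 → k ≠ 0 → IsZero (E'.X k) := fun k a b => isZero_double_X _ h01 k a b
  have hd : E'.d (-1) 0 = (doubleXIso₀ _ h01).hom ≫ pullback.fst φ (E.d (-1) 0) ≫ (doubleXIso₁ _ h01 hne).inv :=
    double_d _ h01 hne
  have hq : QuasiIso ψ := by
    rw [quasiIso_iff]
    intro i
    by_cases i1 : i = -1
    · subst i1
      rw [quasiIsoAt_iff_isIso_homologyMap]
      have hM : Mono (homologyMap ψ (-1)) := by
        rw [mono_homologyMap_iff_up_to_refinements _ (-2) (-1) 0 (by simp) (by simp)]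
        intro T x hx y hy
        rw [hE3, comp_zero, mkHomFromDouble_f₀, ← Category.assoc] at hy
        rw [hd, ← Category.assoc, ← Category.assoc] at hx
        refine ⟨T, 𝟙 T, inferInstance, 0, ?_⟩
        rw [zero_comp, Category.id_comp, ← cancel_mono (doubleXIso₀ _ h01).hom, zero_comp]
        apply pullback.hom_ext
        · exact ((cancel_mono (doubleXIso₁ _ h01 hne).inv).1 (hx.trans zero_comp.symm)).trans zero_comp.symm
        · exact hy.trans zero_comp.symm
      have hEp : Epi (homologyMap ψ (-1)) := by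
        rw [epi_homologyMap_iff_up_to_refinements _ (-2) (-1) 0 (by simp) (by simp)]
        intro T y hy
        refine ⟨T, 𝟙 T, inferInstance,
          pullback.lift (0 : T ⟶ ModuleCat.of R (Fin n → R)) y (by rw [zero_comp, hy]) ≫ (doubleXIso₀ _ h01).inv, ?_, 0, ?_⟩
        · rw [hd]; simp
        · simp [ψ]
      exact isIso_of_mono_of_epi _
    by_cases i0 : i = 0
    · subst i0
      rw [quasiIsoAt_iff_isIso_homologyMap]
      have hM : Mono (homologyMap ψ 0) := by
        rw [mono_homologyMap_iff_up_to_refinements _ (-1) 0 1 (by simp) (by simp)]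
        intro T x hx y hy
        refine ⟨T, 𝟙 T, inferInstance, pullback.lift (x ≫ (doubleXIso₁ _ h01 hne).hom) y
          (by rw [Category.assoc, ← hy, mkHomFromDouble_f₁]) ≫ (doubleXIso₀ _ h01).inv, ?_⟩
        rw [hd]; simp
      have hEp : Epi (homologyMap ψ 0) := by
        rw [epi_homologyMap_iff_up_to_refinements _ (-1) 0 1 (by simp) (by simp)]
        intro T y _
        obtain ⟨T', e, he, a, ha⟩ := surjective_up_to_refinements_of_epi (biprod.desc φ (E.d (-1) 0)) y
        refine ⟨T', e, he, a ≫ biprod.fst ≫ (doubleXIso₁ _ h01 hne).inv,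
          (hzero 1 (by omega) (by omega)).eq_of_tgt _ _, a ≫ biprod.snd, ?_⟩
        rw [ha, biprod.desc_eq, Preadditive.comp_add]
        simp [ψ]
      exact isIso_of_mono_of_epi _
    · have hEi : IsZero (E.X i) := if h : i < -1 then E.isZero_of_isStrictlyGE (-1) i h
        else E.isZero_of_isStrictlyLE 0 i (by omega)
      rw [quasiIsoAt_iff_exactAt' _ _ ((exactAt_iff_isZero_homology _ _).2 (ShortComplex.isZero_homology_of_isZero_X₂ _ hEi))]
      exact (exactAt_iff_isZero_homology _ _).2 (ShortComplex.isZero_homology_of_isZero_X₂ _ (hzero i i1 i0))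
  have hker : Module.Finite R (LinearMap.ker (E.d (-1) 0).hom) := by
    have := Module.Finite.equiv (eH (-1)).symm
    have := E.isIso_homologyπ (-2) (-1) (by simp) hE3
    exact Module.Finite.equiv ((asIso (E.homologyπ (-1))).symm ≪≫
      ((E.cyclesIsKernel (-1) 0 (by simp)).conePointUniqueUpToIso (kernelIsKernel (E.d (-1) 0))) ≪≫
      ModuleCat.kernelIsoKer (E.d (-1) 0)).toLinearEquiv
  have hL : Module.Finite R L := by
    let f₁ : L →ₗ[R] (Fin n → R) := (pullback.fst φ (E.d (-1) 0)).hom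
    refine ⟨Submodule.fg_of_fg_map_of_fg_inf_ker f₁ (IsNoetherian.noetherian _) ?_⟩
    rw [top_inf_eq, ← Module.Finite.iff_fg]
    have hc : ∀ z : LinearMap.ker f₁, (pullback.snd φ (E.d (-1) 0)).hom z.1 ∈ LinearMap.ker (E.d (-1) 0).hom := fun z => by
      have h := ConcreteCategory.congr_hom (pullback.condition (f := φ) (g := E.d (-1) 0)) z.1
      simp only [ConcreteCategory.comp_apply] at h
      rw [LinearMap.mem_ker]
      refine h.symm.trans ?_
      rw [show (pullback.fst φ (E.d (-1) 0)) z.1 = 0 from z.2, map_zero]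
    refine Module.Finite.of_injective
      (((pullback.snd φ (E.d (-1) 0)).hom ∘ₗ (LinearMap.ker f₁).subtype).codRestrict _ hc) ?_
    intro a b hab
    apply Subtype.ext
    have h2 : (pullback.snd φ (E.d (-1) 0)) a.1 = (pullback.snd φ (E.d (-1) 0)) b.1 := congrArg Subtype.val hab
    have h1 : (pullback.fst φ (E.d (-1) 0)) a.1 = (pullback.fst φ (E.d (-1) 0)) b.1 :=
      (LinearMap.mem_ker.1 a.2).trans (LinearMap.mem_ker.1 b.2).symm
    have h : ModuleCat.ofHom (LinearMap.toSpanSingleton R L a.1) = ModuleCat.ofHom (LinearMap.toSpanSingleton R L b.1) := by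
      apply pullback.hom_ext <;> apply ModuleCat.hom_ext <;> apply LinearMap.ext_ring
      · exact (congrArg _ (one_smul R a.1)).trans (h1.trans (congrArg _ (one_smul R b.1)).symm)
      · exact (congrArg _ (one_smul R a.1)).trans (h2.trans (congrArg _ (one_smul R b.1)).symm)
    exact ((one_smul R a.1).symm.trans (ConcreteCategory.congr_hom h (1 : R))).trans (one_smul R b.1)
  refine ⟨E', ?_, ?_, ?_, ?_, ?_, ⟨asIso (DerivedCategory.Q.map ψ) ≪≫ e⟩⟩
  · rw [CochainComplex.isStrictlyGE_iff]; exact fun i hi => hzero i (by omega) (by omega)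
  · rw [CochainComplex.isStrictlyLE_iff]; exact fun i hi => hzero i (by omega) (by omega)
  · exact Module.Free.of_equiv (doubleXIso₁ _ h01 hne).toLinearEquiv.symm
  · exact Module.Finite.equiv (doubleXIso₁ _ h01 hne).toLinearEquiv.symm
  · exact Module.Finite.equiv (doubleXIso₀ _ h01).toLinearEquiv.symm

end Groth.L10.TwoTerm
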