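import Groth.Agent.L10.TwoTerm.Ext1
import Groth.Agent.L10.TwoTerm.Rep
import Groth.Agent.L10.DerTrunc
import Groth.Prelude.Def_DRing2
import Mathlib.Algebra.Homology.ShortComplex.Linear

/-! Objects of `D(R)` with cohomology in degrees `-1, 0`. -/

universe u

open CategoryTheory CategoryTheory.Limits HomologicalComplex CategoryTheory.Pretriangulated

attribute [local instance] HasDerivedCategory.standard

set_option backward.defeqAttrib.useBackward true
set_option backward.isDefEq.respectTransparency false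
namespace Groth.L10.TwoTerm

variable {R : Type u} [CommRing R]

local notation "tt" => DerivedCategory.TStructure.t
local notation "H" => DerivedCategory.homologyFunctor (ModuleCat R)

theorem isGE_inD_shift (N : Type u) [AddCommGroup N] [Module R N] :
    DerivedCategory.IsGE ((Dual.inD R N)⟦(1 : ℤ)⟧) (-1) :=
  have : DerivedCategory.IsGE (Dual.inD R N) 0 :=
    inferInstanceAs (DerivedCategory.IsGE ((DerivedCategory.singleFunctor (ModuleCat.{u} R) 0).obj _) 0)
  (tt).isGE_shift (Dual.inD R N) 0 1 (-1) (by omega)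

theorem eq_zero_LE_GE {Y Z : Dual.D R} (m k : ℤ) (hmk : m < k) (hY : Y.IsLE m) (hZ : Z.IsGE k) (f : Y ⟶ Z) : f = 0 :=
  (tt).zero f m k hmk

theorem complexHomologyMap_smul {K L : CochainComplex (ModuleCat.{u} R) ℤ} (g : K ⟶ L) (r : R) (i : ℤ) :
    homologyMap (r • g) i = r • homologyMap g i := by
  change ShortComplex.homologyMap _ = r • ShortComplex.homologyMap _
  rw [← ShortComplex.homologyMap_smul]
  rfl

theorem H_smul_id (K : Dual.D R) (r : R) (i : ℤ) : (H i).map (r • 𝟙 K) = r • 𝟙 ((H i).obj K) := by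
  obtain ⟨K₀, ⟨e⟩⟩ : ∃ K₀, Nonempty (DerivedCategory.Q.obj K₀ ≅ K) :=
    ⟨DerivedCategory.Q.objPreimage K, ⟨DerivedCategory.Q.objObjPreimageIso K⟩⟩
  have h1 : r • 𝟙 K = e.inv ≫ DerivedCategory.Q.map (r • 𝟙 K₀) ≫ e.hom := by
    rw [Functor.map_smul, CategoryTheory.Functor.map_id, Linear.smul_comp, Linear.comp_smul]
    simp
  rw [h1, Functor.map_comp, Functor.map_comp]
  have hn : (H i).map (DerivedCategory.Q.map (r • 𝟙 K₀)) =
      ((DerivedCategory.homologyFunctorFactors (ModuleCat.{u} R) i).app K₀).hom ≫ homologyMap (r • 𝟙 K₀) i ≫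
        ((DerivedCategory.homologyFunctorFactors (ModuleCat.{u} R) i).app K₀).inv := by
    have := NatIso.naturality_2 (DerivedCategory.homologyFunctorFactors (ModuleCat.{u} R) i) (r • 𝟙 K₀)
    exact this.symm
  rw [hn, complexHomologyMap_smul, homologyMap_id, Linear.smul_comp, Linear.comp_smul, Linear.smul_comp, Linear.comp_smul]
  simp [← Functor.map_comp]

variable {K K' : Dual.D R}

theorem cancel_alpha (α : K ⟶ K')
    (hK : ∀ i : ℤ, i ≠ -1 → i ≠ 0 → Subsingleton (Dual.HD R K i))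
    (hK' : ∀ i : ℤ, i ≠ -1 → i ≠ 0 → Subsingleton (Dual.HD R K' i))
    (h0 : IsIso ((H 0).map α)) (h1 : Epi ((H (-1)).map α))
    {Z : Dual.D R} (hZ : Z.IsGE (-1)) (ξ : K' ⟶ Z) (h : α ≫ ξ = 0) : ξ = 0 := by
  obtain ⟨C, g, δ, hT⟩ := distinguished_cocone_triangle α
  have hz : ∀ (L : Dual.D R), (∀ i : ℤ, i ≠ -1 → i ≠ 0 → Subsingleton (Dual.HD R L i)) → ∀ i : ℤ, 0 < i →
      IsZero ((H i).obj L) := fun L hL i hi => ModuleCat.isZero_of_iff_subsingleton.2 (hL i (by omega) (by omega))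
  have hC : C.IsLE (-2) := by
    rw [DerivedCategory.isLE_iff]
    intro i hi
    have e2 := DerivedCategory.HomologySequence.exact₃ _ hT i (i + 1) rfl
    have hg : (H i).map g = 0 := by
      refine (DerivedCategory.HomologySequence.epi_homologyMap_mor₁_iff _ hT i).1 ?_
      change Epi ((H i).map α)
      by_cases i1 : i = -1
      · subst i1; exact h1
      by_cases i0 : i = 0
      · subst i0; infer_instance
      exact (hz K' hK' i (by omega)).epi _
    refine e2.isZero_X₂ hg ?_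
    refine (DerivedCategory.HomologySequence.mono_homologyMap_mor₁_iff _ hT i (i + 1) rfl).1 ?_
    change Mono ((H (i + 1)).map α)
    by_cases i1 : i + 1 = 0
    · rw [i1]; infer_instance
    exact (hz K hK (i + 1) (by omega)).mono _
  obtain ⟨χ, hχ⟩ := Triangle.yoneda_exact₂ _ hT ξ h
  rw [hχ, eq_zero_LE_GE (-2) (-1) (by omega) hC hZ χ, comp_zero]

theorem smul_id_zero (α : K ⟶ K')
    (hK : ∀ i : ℤ, i ≠ -1 → i ≠ 0 → Subsingleton (Dual.HD R K i))
    (hK' : ∀ i : ℤ, i ≠ -1 → i ≠ 0 → Subsingleton (Dual.HD R K' i))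
    (h0 : IsIso ((H 0).map α)) (h1 : Epi ((H (-1)).map α)) (f : R) (hf : f • 𝟙 K = 0) : f • 𝟙 K' = 0 := by
  refine cancel_alpha α hK hK' h0 h1 (isGE_of_two hK').1 _ ?_
  have : f • α = (f • 𝟙 K) ≫ α := by rw [Linear.smul_comp, Category.id_comp]
  rw [Linear.comp_smul, Category.comp_id, this, hf, zero_comp]

theorem smul_ext_zero (α : K ⟶ K')
    (hK : ∀ i : ℤ, i ≠ -1 → i ≠ 0 → Subsingleton (Dual.HD R K i))
    (hK' : ∀ i : ℤ, i ≠ -1 → i ≠ 0 → Subsingleton (Dual.HD R K' i))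
    (h0 : IsIso ((H 0).map α)) (h1 : Epi ((H (-1)).map α))
    (I : Ideal R) (hI : ∀ (N : Type u) [AddCommGroup N] [Module R N] (a : R), a ∈ I →
        ∀ ξ : K ⟶ (Dual.inD R N)⟦(1 : ℤ)⟧, a • ξ = 0)
    (N : Type u) [AddCommGroup N] [Module R N] (a : R) (ha : a ∈ I) (ξ : K' ⟶ (Dual.inD R N)⟦(1 : ℤ)⟧) :
    a • ξ = 0 :=
  cancel_alpha α hK hK' h0 h1 (isGE_inD_shift N) _ (by rw [Linear.comp_smul]; exact hI N a ha _)

theorem comp_eq_zero {K₁ K₂ K₃ : Dual.D R} (φ : K₁ ⟶ K₂) (ψ : K₂ ⟶ K₃)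
    (h₁ : ∀ i : ℤ, i ≠ -1 → i ≠ 0 → Subsingleton (Dual.HD R K₁ i))
    (h₃ : ∀ i : ℤ, i ≠ -1 → i ≠ 0 → Subsingleton (Dual.HD R K₃ i))
    (hφ : (H 0).map φ = 0) (hψ : (H (-1)).map ψ = 0) : φ ≫ ψ = 0 := by
  have := (isGE_of_two h₁).2
  have := (isGE_of_two h₃).1
  have hz : φ ≫ ((tt).truncGEπ 0).app K₂ = 0 := by
    have : DerivedCategory.IsGE (((tt).truncGE 0).obj K₂) 0 := inferInstance
    refine Groth.L10.eq_zero_of_H_eq_zero 0 (Y := K₁) (Z := ((tt).truncGE 0).obj K₂) _ ?_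
    rw [Functor.map_comp, hφ, zero_comp]
  obtain ⟨χ, hχ⟩ := Triangle.coyoneda_exact₂ _ ((tt).triangleLTGE_distinguished 0 K₂) φ hz
  have hw : ((tt).truncLTι 0).app K₂ ≫ ψ = 0 := by
    have : DerivedCategory.IsLE (((tt).truncLT 0).obj K₂) (-1) := (tt).isLE_truncLT_obj _ _ _ (by omega)
    refine Groth.L10.eq_zero_of_H_eq_zero (-1) (Y := ((tt).truncLT 0).obj K₂) (Z := K₃) _ ?_
    rw [Functor.map_comp, hψ, comp_zero]
  rw [hχ]
  exact (Category.assoc _ _ _).trans ((congrArg (χ ≫ ·) hw).trans comp_zero)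

section TwoTermComplex

variable {E : CochainComplex (ModuleCat.{u} R) ℤ} [E.IsStrictlyLE 0] [E.IsStrictlyGE (-1)] [Projective (E.X 0)]
  (e : DerivedCategory.Q.obj E ≅ K)

include e in
theorem smul_iff (a : R) :
    (∀ (N : Type u) [AddCommGroup N] [Module R N] (ξ : K ⟶ (Dual.inD R N)⟦(1 : ℤ)⟧), a • ξ = 0) ↔
      ∃ h : E.X 0 ⟶ E.X (-1), E.d (-1) 0 ≫ h = a • 𝟙 (E.X (-1)) := by
  rw [← smul_zero_iff (M := E) a]
  constructor
  · intro h N ξ
    have := h N (e.inv ≫ ξ)
    rw [← cancel_epi e.inv, Linear.comp_smul, comp_zero]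
    exact this
  · intro h N _ _ ξ
    have := h (ModuleCat.of R N) (e.hom ≫ ξ)
    rw [← cancel_epi e.hom, Linear.comp_smul, comp_zero]
    exact this

include e in
theorem kills_homology {a : R} (h : E.X 0 ⟶ E.X (-1)) (hh : E.d (-1) 0 ≫ h = a • 𝟙 (E.X (-1))) :
    a • 𝟙 ((H (-1)).obj K) = 0 := by
  let θ := (H (-1)).mapIso e.symm ≪≫ (DerivedCategory.homologyFunctorFactors (ModuleCat.{u} R) (-1)).app E
  have h0 : a • 𝟙 (E.homology (-1)) = 0 := by
    rw [← cancel_epi (E.homologyπ (-1)), comp_zero, Linear.comp_smul, Category.comp_id]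
    have hc : a • 𝟙 (E.cycles (-1)) = 0 := by
      rw [← cancel_mono (E.iCycles (-1)), zero_comp, Linear.smul_comp, Category.id_comp]
      have : a • E.iCycles (-1) = E.iCycles (-1) ≫ (a • 𝟙 _) := by rw [Linear.comp_smul, Category.comp_id]
      rw [this, ← hh, reassoc_of% (E.iCycles_d (-1) 0), zero_comp]
    have : a • E.homologyπ (-1) = (a • 𝟙 _) ≫ E.homologyπ (-1) := by rw [Linear.smul_comp, Category.id_comp]
    rw [this, hc, zero_comp]
  rw [← cancel_mono θ.hom, zero_comp, Linear.smul_comp, Category.id_comp]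
  have : a • θ.hom = θ.hom ≫ (a • 𝟙 _) := by rw [Linear.comp_smul, Category.comp_id]
  rw [this]
  exact (congrArg (θ.hom ≫ ·) h0).trans comp_zero

end TwoTermComplex

theorem projective_iff (K : Dual.D R) (hK : ∀ i : ℤ, i ≠ -1 → i ≠ 0 → Subsingleton (Dual.HD R K i)) :
    (Subsingleton (Dual.HD R K (-1)) ∧ Module.Projective R (Dual.HD R K 0)) ↔
      ∀ (M : Type u) [AddCommGroup M] [Module R M], Subsingleton (K ⟶ (Dual.inD R M)⟦(1 : ℤ)⟧) := by
  constructor
  · rintro ⟨h1, h0⟩ M _ _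
    have : K.IsGE 0 := (DerivedCategory.isGE_iff K 0).2 fun i hi => by
      by_cases hi' : i = -1
      · subst hi'; exact ModuleCat.isZero_of_iff_subsingleton.2 h1
      · exact ModuleCat.isZero_of_iff_subsingleton.2 (hK i hi' (by omega))
    have := (isGE_of_two hK).2
    obtain ⟨e⟩ := Groth.L10.exists_iso_single_H K 0
    let S := (CochainComplex.singleFunctor (ModuleCat.{u} R) 0).obj ((H 0).obj K)
    have : S.IsStrictlyLE 0 := by
      rw [CochainComplex.isStrictlyLE_iff]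
      intro i hi
      exact HomologicalComplex.isZero_single_obj_X (ComplexShape.up ℤ) 0 _ i (by omega)
    have : Projective ((H 0).obj K) := (IsProjective.iff_projective _).1 h0
    have : Projective (S.X 0) := Projective.of_iso (singleObjXSelf (ComplexShape.up ℤ) 0 _).symm inferInstance
    let e' := e ≪≫ (DerivedCategory.singleFunctorIsoCompQ (ModuleCat.{u} R) 0).app _
    refine ⟨fun a b => ?_⟩
    rw [← sub_eq_zero, ← cancel_epi e'.inv, comp_zero]
    obtain ⟨g, hg⟩ := ext_surj (M := S) (N := ModuleCat.of R M) (e'.inv ≫ (a - b))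
    refine hg.trans ((ext_zero_iff g).2 ⟨0, ?_⟩)
    exact (HomologicalComplex.isZero_single_obj_X (ComplexShape.up ℤ) 0 _ (-1) (by omega)).eq_of_src _ _
  · intro h
    obtain ⟨E, hE1, hE2, hE0, ⟨e⟩⟩ := exists_two_term_free K hK
    have : Projective (E.X 0) := (IsProjective.iff_projective _).1 (Module.Projective.of_free (R := R) (P := E.X 0))
    obtain ⟨h', hh⟩ := (smul_iff e (1 : R)).1 fun N _ _ ξ => (h N).elim _ _
    rw [one_smul] at hh
    let θ : ∀ i, (H i).obj K ≅ E.homology i := fun i =>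
      (H i).mapIso e.symm ≪≫ (DerivedCategory.homologyFunctorFactors (ModuleCat.{u} R) i).app E
    refine ⟨?_, ?_⟩
    · have hz : IsZero (E.homology (-1)) := by
        have hc : 𝟙 (E.cycles (-1)) = 0 := by
          rw [← cancel_mono (E.iCycles (-1)), zero_comp, Category.id_comp, ← Category.comp_id (E.iCycles (-1)),
            ← hh, reassoc_of% (E.iCycles_d (-1) 0), zero_comp]
        rw [IsZero.iff_id_eq_zero, ← cancel_epi (E.homologyπ (-1)), Category.comp_id, comp_zero,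
          ← Category.id_comp (E.homologyπ (-1)), hc, zero_comp]
      exact ModuleCat.subsingleton_of_isZero (hz.of_iso (θ (-1)))
    · have hcE : Projective (E.cycles 0) := by
        have := E.isIso_iCycles 0 1 (by simp) ((E.isZero_of_isStrictlyLE 0 1 (by omega)).eq_of_tgt _ _)
        exact Projective.of_iso (asIso (E.iCycles 0)).symm inferInstance
      let s : E.homology 0 ⟶ E.cycles 0 := (E.homologyIsCokernel (-1) 0 (by simp)).desc
        (CokernelCofork.ofπ (𝟙 _ - E.iCycles 0 ≫ h' ≫ E.toCycles (-1) 0) (by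
          rw [Preadditive.comp_sub, Category.comp_id, toCycles_i_assoc, reassoc_of% hh, sub_self]))
      have hs : E.homologyπ 0 ≫ s = 𝟙 _ - E.iCycles 0 ≫ h' ≫ E.toCycles (-1) 0 :=
        (E.homologyIsCokernel (-1) 0 (by simp)).fac _ WalkingParallelPair.one
      have : Projective (E.homology 0) := Retract.projective (Y := E.cycles 0) ⟨s, E.homologyπ 0, by
        rw [← cancel_epi (E.homologyπ 0), reassoc_of% hs, Category.comp_id, Preadditive.sub_comp, Category.id_comp,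
          Category.assoc, Category.assoc, toCycles_comp_homologyπ, comp_zero, comp_zero, sub_zero]⟩
      exact (IsProjective.iff_projective _).2 (Projective.of_iso (θ 0).symm inferInstance)

theorem ext_killed_iff (I : Ideal R) (K : Dual.D R) (hK : ∀ i : ℤ, i ≠ -1 → i ≠ 0 → Subsingleton (Dual.HD R K i)) :
    (∀ (N : Type u) [AddCommGroup N] [Module R N] (a : R), a ∈ I →
        ∀ ξ : K ⟶ (Dual.inD R N)⟦(1 : ℤ)⟧, a • ξ = 0) ↔
      ∀ (E : DRing.Cx R), DRing.VanishesOutside E (-1) 0 → Module.Projective R (E.X 0) →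
        Nonempty (DRing.toD E ≅ K) → ∀ a : R, a ∈ I →
          ∃ h : E.X 0 ⟶ E.X (-1), E.d (-1) 0 ≫ h = a • 𝟙 (E.X (-1)) := by
  constructor
  · rintro h E hv hP ⟨e⟩ a ha
    have : E.IsStrictlyLE 0 := (CochainComplex.isStrictlyLE_iff _ _).2 fun i hi => hv i (Or.inr hi)
    have : E.IsStrictlyGE (-1) := (CochainComplex.isStrictlyGE_iff _ _).2 fun i hi => hv i (Or.inl hi)
    have : Projective (E.X 0) := (IsProjective.iff_projective _).1 hP
    exact (smul_iff e a).1 fun N _ _ => h N a ha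
  · intro h N _ _ a ha
    obtain ⟨E, hE1, hE2, hE0, ⟨e⟩⟩ := exists_two_term_free K hK
    have hP : Module.Projective R (E.X 0) := Module.Projective.of_free
    have : Projective (E.X 0) := (IsProjective.iff_projective _).1 hP
    refine (smul_iff e a).2 (h E (fun i hi => ?_) hP ⟨e⟩ a ha) N
    rcases hi with hi | hi
    · exact E.isZero_of_isStrictlyGE (-1) i hi
    · exact E.isZero_of_isStrictlyLE 0 i hi

theorem ext_killed_pow_iff (I : Ideal R) (K : Dual.D R) (hK : ∀ i : ℤ, i ≠ -1 → i ≠ 0 → Subsingleton (Dual.HD R K i)) :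
    (∃ c : ℕ, ∀ (N : Type u) [AddCommGroup N] [Module R N] (a : R), a ∈ I ^ c →
        ∀ ξ : K ⟶ (Dual.inD R N)⟦(1 : ℤ)⟧, a • ξ = 0) ↔
      ∃ c : ℕ, (∀ a : R, a ∈ I ^ c → ∀ x : Dual.HD R K (-1), a • x = 0) ∧
        ∀ (N : Type u) [AddCommGroup N] [Module R N] (a : R), a ∈ I ^ c →
          ∀ ξ : Dual.inD R (Dual.HD R K 0) ⟶ (Dual.inD R N)⟦(1 : ℤ)⟧, a • ξ = 0 := by
  have := (isGE_of_two hK).2
  have := (isGE_of_two hK).1
  -- the map to `H⁰`
  have hTGE : DerivedCategory.IsGE (((tt).truncGE 0).obj K) 0 := inferInstance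
  have hTLE : DerivedCategory.IsLE (((tt).truncGE 0).obj K) 0 := (DerivedCategory.isLE_iff _ 0).2 fun i hi => by
    have := Groth.L10.isIso_H_π 0 i (by omega) K
    exact (DerivedCategory.isZero_of_isLE K 0 i hi).of_iso (asIso ((H i).map (((tt).truncGEπ 0).app K))).symm
  obtain ⟨e1⟩ := Groth.L10.exists_iso_single_H (((tt).truncGE 0).obj K) 0
  have hπ := Groth.L10.isIso_H_π 0 0 le_rfl K
  let e2 : ((tt).truncGE 0).obj K ≅ Dual.inD R (Dual.HD R K 0) :=
    e1 ≪≫ (DerivedCategory.singleFunctor (ModuleCat.{u} R) 0).mapIso (asIso ((H 0).map (((tt).truncGEπ 0).app K))).symm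
  let p : K ⟶ Dual.inD R (Dual.HD R K 0) := ((tt).truncGEπ 0).app K ≫ e2.hom
  have hT := (tt).triangleLTGE_distinguished 0 K
  have hTle : DerivedCategory.IsLE (((tt).truncLT 0).obj K) (-1) := (tt).isLE_truncLT_obj _ _ _ (by omega)
  have p_cancel : ∀ (N : Type u) [AddCommGroup N] [Module R N]
      (η : Dual.inD R (Dual.HD R K 0) ⟶ (Dual.inD R N)⟦(1 : ℤ)⟧), p ≫ η = 0 → η = 0 := by
    intro N _ _ η hη
    obtain ⟨χ, hχ⟩ := Triangle.yoneda_exact₃ _ hT (e2.hom ≫ η) (by exact (Category.assoc _ _ _).symm.trans hη)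
    have hle : DerivedCategory.IsLE ((((tt).truncLT 0).obj K)⟦(1 : ℤ)⟧) (-2) :=
      (tt).isLE_shift (((tt).truncLT 0).obj K) (-1) 1 (-2) (by omega)
    have hz : χ = 0 := eq_zero_LE_GE (-2) (-1) (by omega) hle (isGE_inD_shift N) χ
    rw [hz, comp_zero] at hχ
    rw [← cancel_epi e2.hom, hχ, comp_zero]
  constructor
  · rintro ⟨c, hc⟩
    refine ⟨c, fun a ha x => ?_, fun N _ _ a ha η => p_cancel N _ ?_⟩
    · obtain ⟨E, hE1, hE2, hE0, ⟨e⟩⟩ := exists_two_term_free K hK
      have : Projective (E.X 0) := (IsProjective.iff_projective _).1 (Module.Projective.of_free (R := R) (P := E.X 0))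
      obtain ⟨h, hh⟩ := (smul_iff e a).1 fun N _ _ => hc N a ha
      exact ConcreteCategory.congr_hom (kills_homology e h hh) x
    · rw [Linear.comp_smul]; exact hc N a ha _
  · rintro ⟨c, hc1, hc2⟩
    refine ⟨c + c, fun N _ _ a ha ξ => ?_⟩
    rw [pow_add] at ha
    refine Submodule.mul_induction_on ha (fun m hm n hn => ?_) (fun x y hx hy => by rw [add_smul, hx, hy, add_zero])
    have hι : ((tt).truncLTι 0).app K ≫ (n • ξ) = 0 := by
      have := isGE_inD_shift (R := R) N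
      refine Groth.L10.eq_zero_of_H_eq_zero (-1) (Y := ((tt).truncLT 0).obj K) (Z := (Dual.inD R N)⟦(1 : ℤ)⟧) _ ?_
      have h0 : n • 𝟙 ((H (-1)).obj K) = 0 := ModuleCat.hom_ext (LinearMap.ext fun x => hc1 n hn x)
      have hn' : n • ξ = (n • 𝟙 K) ≫ ξ := by rw [Linear.smul_comp, Category.id_comp]
      have h0' : (H (-1)).map (n • 𝟙 K) = 0 := (H_smul_id K n (-1)).trans h0
      rw [hn', Functor.map_comp, Functor.map_comp]
      erw [h0']
      rw [zero_comp, comp_zero]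
    obtain ⟨η, hη⟩ := Triangle.yoneda_exact₂ _ hT (n • ξ) hι
    rw [mul_smul, hη]
    have : m • (e2.inv ≫ η) = 0 := hc2 N m hm _
    have hh : ((tt).truncGEπ 0).app K ≫ η = p ≫ e2.inv ≫ η := by simp [p]
    change m • (((tt).truncGEπ 0).app K ≫ η) = 0
    rw [hh, ← Linear.comp_smul, this, comp_zero]

theorem precomp_zero_iff (M L : DRing.Cx R)
    (hM : ∀ i : ℤ, 0 < i → Limits.IsZero (M.X i)) (hM0 : Module.Projective R (M.X 0))
    (hL : ∀ i : ℤ, i ≠ -1 → i ≠ 0 → Limits.IsZero (L.X i)) (hL0 : Module.Projective R (L.X 0))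
    (a : M ⟶ L) :
    (∀ (N : Type u) [AddCommGroup N] [Module R N] (ξ : DRing.toD L ⟶ (Dual.inD R N)⟦(1 : ℤ)⟧),
        DerivedCategory.Q.map a ≫ ξ = 0) ↔
      ∃ h : M.X 0 ⟶ L.X (-1), a.f (-1) + M.d (-1) 0 ≫ h = 0 := by
  have : Projective (M.X 0) := (IsProjective.iff_projective _).1 hM0
  have : Projective (L.X 0) := (IsProjective.iff_projective _).1 hL0
  have : M.IsStrictlyLE 0 := (CochainComplex.isStrictlyLE_iff _ _).2 fun i hi => hM i hi
  have : L.IsStrictlyLE 0 := (CochainComplex.isStrictlyLE_iff _ _).2 fun i hi => hL i (by omega) (by omega)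
  have : L.IsStrictlyGE (-1) := (CochainComplex.isStrictlyGE_iff _ _).2 fun i hi => hL i (by omega) (by omega)
  constructor
  · intro h
    have h2 : L.d (-2) (-1) = 0 := (L.isZero_of_isStrictlyGE (-1) (-2) (by omega)).eq_of_src _ _
    have h' := h (L.X (-1)) (DerivedCategory.Q.map (toNegOne (𝟙 (L.X (-1))) (by rw [h2, zero_comp])) ≫ (eN (L.X (-1))).hom)
    rw [← Category.assoc, ← Functor.map_comp, ext_zero_iff] at h'
    obtain ⟨k, hk⟩ := h'
    rw [HomologicalComplex.comp_f, toNegOne_f, Category.id_comp] at hk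
    refine ⟨-(k ≫ (HomologicalComplex.singleObjXSelf (ComplexShape.up ℤ) (-1) _).hom), ?_⟩
    rw [Preadditive.comp_neg, ← Category.assoc, ← hk]
    simp
  · rintro ⟨h, hh⟩ N _ _ ξ
    obtain ⟨g, hg⟩ := ext_surj (M := L) (N := ModuleCat.of R N) ξ
    rw [hg, ← Category.assoc, ← Functor.map_comp, ext_zero_iff]
    refine ⟨-h ≫ g.f (-1), ?_⟩
    rw [HomologicalComplex.comp_f, eq_neg_of_add_eq_zero_left hh]
    simp

theorem homotopy_derived_bijective (M L : DRing.Cx R)
    (hM : ∀ i : ℤ, 0 < i → Limits.IsZero (M.X i)) (hM0 : Module.Projective R (M.X 0))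
    (hL : ∀ i : ℤ, i ≤ -2 → Limits.IsZero (L.X i)) :
    Function.Bijective (fun φ : (HomotopyCategory.quotient (ModuleCat.{u} R) (ComplexShape.up ℤ)).obj M ⟶
        (HomotopyCategory.quotient (ModuleCat.{u} R) (ComplexShape.up ℤ)).obj L => DerivedCategory.Qh.map φ) := by
  have : Projective (M.X 0) := (IsProjective.iff_projective _).1 hM0
  have : M.IsStrictlyLE 0 := (CochainComplex.isStrictlyLE_iff _ _).2 fun i hi => hM i hi
  have : L.IsStrictlyGE (-1) := (CochainComplex.isStrictlyGE_iff _ _).2 fun i hi => hL i (by omega)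
  exact qh_bijective M L

theorem exists_free (K : Dual.D R) (hK : ∀ i : ℤ, i ≠ -1 → i ≠ 0 → Subsingleton (Dual.HD R K i)) :
    ∃ E : DRing.Cx R, DRing.VanishesOutside E (-1) 0 ∧ Module.Free R (E.X 0) ∧ Nonempty (DRing.toD E ≅ K) := by
  obtain ⟨E, hE1, hE2, hE0, he⟩ := exists_two_term_free K hK
  exact ⟨E, fun i hi => hi.elim (fun h => E.isZero_of_isStrictlyGE (-1) i h) (fun h => E.isZero_of_isStrictlyLE 0 i h), hE0, he⟩

theorem exists_finite [IsNoetherianRing R] (K : Dual.D R)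
    (hK : ∀ i : ℤ, i ≠ -1 → i ≠ 0 → Subsingleton (Dual.HD R K i))
    (h1 : Module.Finite R (Dual.HD R K (-1))) (h0 : Module.Finite R (Dual.HD R K 0)) :
    ∃ E : DRing.Cx R, DRing.VanishesOutside E (-1) 0 ∧ Module.Free R (E.X 0) ∧ Module.Finite R (E.X 0) ∧
      Module.Finite R (E.X (-1)) ∧ Nonempty (DRing.toD E ≅ K) := by
  obtain ⟨E, hE1, hE2, a, b, c, he⟩ := exists_two_term_finite K hK h1 h0
  exact ⟨E, fun i hi => hi.elim (fun h => E.isZero_of_isStrictlyGE (-1) i h) (fun h => E.isZero_of_isStrictlyLE 0 i h), a, b, c, he⟩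

end Groth.L10.TwoTerm
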