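import Groth.Agent.L10.TwoTerm.HomBij
import Mathlib.Algebra.Homology.DerivedCategory.Linear
import Mathlib.Algebra.Homology.HomotopyCategory.SingleFunctors
import Mathlib.Algebra.Homology.SingleHomology

/-! `Hom(M, N[1])` for a complex `M` in degrees ≤ 0 with projective top term. -/

universe w v u

open CategoryTheory CategoryTheory.Limits HomologicalComplex

set_option backward.defeqAttrib.useBackward true
set_option backward.isDefEq.respectTransparency false
namespace Groth.L10.TwoTerm

variable {A : Type u} [Category.{v} A] [Abelian A] [EnoughProjectives A]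

/-- An object placed in degree `-1`. -/
noncomputable abbrev negOne (N : A) : CochainComplex A ℤ := (CochainComplex.singleFunctor A (-1)).obj N

instance (N : A) : (negOne N).IsStrictlyGE (-1) := by
  rw [CochainComplex.isStrictlyGE_iff]
  intro i hi
  exact HomologicalComplex.isZero_single_obj_X (ComplexShape.up ℤ) (-1) N i (by omega)

variable [HasDerivedCategory.{w} A]

/-- `N[1]` is the image of `N` placed in degree `-1`. -/
noncomputable def eN (N : A) :
    DerivedCategory.Q.obj (negOne N) ≅ ((DerivedCategory.singleFunctor A 0).obj N)⟦(1 : ℤ)⟧ :=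
  ((DerivedCategory.singleFunctorIsoCompQ A (-1)).symm.app N) ≪≫
    (((DerivedCategory.singleFunctors A).shiftIso (1 : ℤ) (-1) 0 (by omega)).app N).symm

variable {M : CochainComplex A ℤ} [M.IsStrictlyLE 0] [Projective (M.X 0)]

theorem ext_surj {N : A} (ξ : DerivedCategory.Q.obj M ⟶ ((DerivedCategory.singleFunctor A 0).obj N)⟦(1 : ℤ)⟧) :
    ∃ g : M ⟶ negOne N, ξ = DerivedCategory.Q.map g ≫ (eN N).hom := by
  obtain ⟨y, hy⟩ := (qh_bijective M (negOne N)).2
    ((DerivedCategory.quotientCompQhIso A).hom.app M ≫ ξ ≫ (eN N).inv ≫ (DerivedCategory.quotientCompQhIso A).inv.app _)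
  obtain ⟨g, rfl⟩ := (HomotopyCategory.quotient A (ComplexShape.up ℤ)).map_surjective y
  refine ⟨g, ?_⟩
  have hn := NatIso.naturality_1 (DerivedCategory.quotientCompQhIso A) g
  dsimp at hy hn
  rw [← hn, hy]
  simp

theorem ext_zero_iff {N : A} (g : M ⟶ negOne N) :
    DerivedCategory.Q.map g ≫ (eN N).hom = 0 ↔
      ∃ h : M.X 0 ⟶ (negOne N).X (-1), g.f (-1) = M.d (-1) 0 ≫ h := by
  rw [Preadditive.IsIso.comp_right_eq_zero]
  constructor
  · intro h0
    have h : (HomotopyCategory.quotient A (ComplexShape.up ℤ)).map g = 0 := (qh_bijective M (negOne N)).1 (by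
      have hn := NatIso.naturality_2 (DerivedCategory.quotientCompQhIso A) g
      dsimp at hn ⊢
      rw [← hn, h0]
      simp)
    exact ⟨_, (homotopy_comps (HomotopyCategory.homotopyOfEq g 0 (by rw [h, Functor.map_zero]))).2⟩
  · rintro ⟨h, hg⟩
    have hz : g.f 0 = h ≫ (negOne N).d (-1) 0 :=
      (HomologicalComplex.isZero_single_obj_X (ComplexShape.up ℤ) (-1) N 0 (by omega)).eq_of_tgt _ _
    have := congrArg DerivedCategory.Qh.map (HomotopyCategory.eq_of_homotopy _ _ (homotopyZero g h hz hg))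
    rw [Functor.map_zero, Functor.map_zero] at this
    rw [← NatIso.naturality_1 (DerivedCategory.quotientCompQhIso A) g]
    simp [this]

/-- Maps from `M` to an object in degree `-1`. -/
noncomputable def toNegOne {N : A} (φ : M.X (-1) ⟶ N) (hφ : M.d (-2) (-1) ≫ φ = 0) : M ⟶ negOne N :=
  HomologicalComplex.mkHomToSingle φ (fun i hi => by
    obtain rfl : i = -2 := by simp at hi; omega
    exact hφ)

theorem toNegOne_f {N : A} (φ : M.X (-1) ⟶ N) (hφ : M.d (-2) (-1) ≫ φ = 0) :
    (toNegOne φ hφ).f (-1) = φ ≫ (HomologicalComplex.singleObjXSelf (ComplexShape.up ℤ) (-1) N).inv :=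
  HomologicalComplex.mkHomToSingle_f _ _

theorem smul_ext {R : Type*} [Ring R] [Linear R A] {N : A} (a : R) (g : M ⟶ negOne N) :
    a • (DerivedCategory.Q.map g ≫ (eN N).hom) = DerivedCategory.Q.map (a • g) ≫ (eN N).hom := by
  rw [Functor.map_smul, Linear.smul_comp]

/-- Annihilation of all `Hom(M, N[1])` in terms of the differential. -/
theorem smul_zero_iff [M.IsStrictlyGE (-1)] {R : Type*} [Ring R] [Linear R A] (a : R) :
    (∀ (N : A) (ξ : DerivedCategory.Q.obj M ⟶ ((DerivedCategory.singleFunctor A 0).obj N)⟦(1 : ℤ)⟧), a • ξ = 0) ↔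
      ∃ h : M.X 0 ⟶ M.X (-1), M.d (-1) 0 ≫ h = a • 𝟙 (M.X (-1)) := by
  constructor
  · intro h
    have h2 : M.d (-2) (-1) = 0 := (M.isZero_of_isStrictlyGE (-1) (-2) (by omega)).eq_of_src _ _
    have := h (M.X (-1)) (DerivedCategory.Q.map (toNegOne (𝟙 (M.X (-1))) (by rw [h2, zero_comp])) ≫ (eN _).hom)
    rw [smul_ext, ext_zero_iff] at this
    obtain ⟨k, hk⟩ := this
    refine ⟨k ≫ (HomologicalComplex.singleObjXSelf (ComplexShape.up ℤ) (-1) _).hom, ?_⟩
    rw [← Category.assoc, ← hk, HomologicalComplex.smul_f_apply, toNegOne_f]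
    simp
  · rintro ⟨h, hh⟩ N ξ
    obtain ⟨g, rfl⟩ := ext_surj ξ
    rw [smul_ext, ext_zero_iff]
    exact ⟨h ≫ g.f (-1), by rw [reassoc_of% hh, HomologicalComplex.smul_f_apply]; simp⟩

end Groth.L10.TwoTerm
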