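import Groth.Agent.L00.ClassResLeft
import Mathlib.Algebra.Homology.Refinements
import Mathlib.Algebra.Homology.DerivedCategory.KProjective
import Mathlib.CategoryTheory.Abelian.Projective.Basic

/-! Morphisms in the derived category out of a complex in degrees ≤ 0 with projective top term, into a
complex in degrees ≥ -1. -/

universe w v u

open CategoryTheory CategoryTheory.Limits HomologicalComplex ZeroObject

set_option backward.defeqAttrib.useBackward true
set_option backward.isDefEq.respectTransparency false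
namespace Groth.L10.TwoTerm

variable {A : Type u} [Category.{v} A] [Abelian A]

section

variable {M N : CochainComplex A ℤ} [M.IsStrictlyLE 0] [N.IsStrictlyGE (-1)]

open Classical in
/-- The homotopy components given by a single map. -/
noncomputable def hcomp (h : M.X 0 ⟶ N.X (-1)) (i j : ℤ) (hij : (ComplexShape.up ℤ).Rel j i) : M.X i ⟶ N.X j :=
  if hi : i = 0 then eqToHom (by subst hi; rfl) ≫ h ≫ eqToHom (by
    subst hi
    obtain rfl : j = -1 := by simp at hij; omega
    rfl) else 0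

theorem nullMap_zero (h : M.X 0 ⟶ N.X (-1)) :
    (Homotopy.nullHomotopicMap' (hcomp h)).f 0 = h ≫ N.d (-1) 0 := by
  rw [Homotopy.nullHomotopicMap'_f (show (ComplexShape.up ℤ).Rel (-1) 0 by simp) (show (ComplexShape.up ℤ).Rel 0 1 by simp)]
  simp [hcomp]

theorem nullMap_neg (h : M.X 0 ⟶ N.X (-1)) :
    (Homotopy.nullHomotopicMap' (hcomp h)).f (-1) = M.d (-1) 0 ≫ h := by
  rw [Homotopy.nullHomotopicMap'_f (show (ComplexShape.up ℤ).Rel (-2) (-1) by simp) (show (ComplexShape.up ℤ).Rel (-1) 0 by simp)]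
  simp [hcomp]

theorem hom_ext_two {f g : M ⟶ N} (h₀ : f.f 0 = g.f 0) (h₁ : f.f (-1) = g.f (-1)) : f = g := by
  ext n
  by_cases h0 : n = 0
  · subst h0; exact h₀
  by_cases h1 : n = -1
  · subst h1; exact h₁
  by_cases hn : 0 < n
  · exact (M.isZero_of_isStrictlyLE 0 n hn).eq_of_src _ _
  · exact (N.isZero_of_isStrictlyGE (-1) n (by omega)).eq_of_tgt _ _

/-- A map is null-homotopic as soon as it is given by a single component. -/
noncomputable def homotopyZero (g : M ⟶ N) (h : M.X 0 ⟶ N.X (-1)) (h₀ : g.f 0 = h ≫ N.d (-1) 0)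
    (h₁ : g.f (-1) = M.d (-1) 0 ≫ h) : Homotopy g 0 :=
  (Homotopy.ofEq (hom_ext_two (h₀.trans (nullMap_zero h).symm) (h₁.trans (nullMap_neg h).symm))).trans
    (Homotopy.nullHomotopy' (hcomp h))

theorem homotopy_comps {g : M ⟶ N} (H : Homotopy g 0) :
    g.f 0 = H.hom 0 (-1) ≫ N.d (-1) 0 ∧ g.f (-1) = M.d (-1) 0 ≫ H.hom 0 (-1) := by
  have a := H.comm 0
  have b := H.comm (-1)
  rw [dNext_eq H.hom (show (ComplexShape.up ℤ).Rel 0 1 by simp), prevD_eq H.hom (show (ComplexShape.up ℤ).Rel (-1) 0 by simp),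
    (M.isZero_of_isStrictlyLE 0 1 (by omega)).eq_of_tgt (M.d 0 1) 0] at a
  rw [dNext_eq H.hom (show (ComplexShape.up ℤ).Rel (-1) 0 by simp), prevD_eq H.hom (show (ComplexShape.up ℤ).Rel (-2) (-1) by simp),
    (N.isZero_of_isStrictlyGE (-1) (-2) (by omega)).eq_of_tgt (H.hom (-1) (-2)) 0] at b
  simp at a b
  exact ⟨a, b⟩

end

section

variable {M P N : CochainComplex A ℤ} [M.IsStrictlyLE 0] [P.IsStrictlyLE 0] [N.IsStrictlyGE (-1)]
  (p : P ⟶ M) [∀ n, Epi (p.f n)] [QuasiIso p]

/-- Kernel elements in degree `0` are differentials of kernel elements. -/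
theorem kill_zero {T : A} (k : T ⟶ P.X 0) (hk : k ≫ p.f 0 = 0) :
    ∃ (T' : A) (e : T' ⟶ T) (_ : Epi e) (z : T' ⟶ P.X (-1)), z ≫ p.f (-1) = 0 ∧ e ≫ k = z ≫ P.d (-1) 0 := by
  have : IsIso (homologyMap p 0) := inferInstance
  have : IsIso (homologyMap p (-1)) := inferInstance
  obtain ⟨T₁, e₁, _, w, hw⟩ := (mono_homologyMap_iff_up_to_refinements p (-1) 0 1 (by simp) (by simp)).1 inferInstance
    k (by rw [(P.isZero_of_isStrictlyLE 0 1 (by omega)).eq_of_tgt (P.d 0 1) 0, comp_zero]) 0 (by rw [hk, zero_comp])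
  obtain ⟨T₂, e₂, _, c, hc, u, hu⟩ := (epi_homologyMap_iff_up_to_refinements p (-2) (-1) 0 (by simp) (by simp)).1 inferInstance
    (w ≫ p.f (-1)) (by rw [Category.assoc, p.comm, ← reassoc_of% hw, hk, comp_zero])
  obtain ⟨T₃, e₃, _, u', hu'⟩ := surjective_up_to_refinements_of_epi (p.f (-2)) u
  refine ⟨T₃, e₃ ≫ e₂ ≫ e₁, inferInstance, e₃ ≫ e₂ ≫ w - e₃ ≫ c - u' ≫ P.d (-2) (-1), ?_, ?_⟩
  · simp only [Preadditive.sub_comp, Category.assoc, hu, Preadditive.comp_add, reassoc_of% hu', ← p.comm]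
    abel
  · simp only [Preadditive.sub_comp, Category.assoc, hw, hc, comp_zero, P.d_comp_d, sub_zero]

theorem precomp_injective (g : M ⟶ N) (H : Homotopy (p ≫ g) 0) : Nonempty (Homotopy g 0) := by
  obtain ⟨a, b⟩ := homotopy_comps H
  simp only [HomologicalComplex.comp_f] at a b
  have hker : kernel.ι (p.f 0) ≫ H.hom 0 (-1) = 0 := by
    obtain ⟨T, e, _, z, hz, hze⟩ := kill_zero p (kernel.ι (p.f 0)) (kernel.condition _)
    rw [← cancel_epi e, comp_zero, reassoc_of% hze, ← b, reassoc_of% hz, zero_comp]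
  refine ⟨homotopyZero g (Abelian.epiDesc (p.f 0) (H.hom 0 (-1)) hker) ?_ ?_⟩
  · rw [← cancel_epi (p.f 0), Abelian.comp_epiDesc_assoc, a]
  · rw [← cancel_epi (p.f (-1)), p.comm_assoc, Abelian.comp_epiDesc, b]

variable [Projective (M.X 0)]

theorem precomp_surjective (f : P ⟶ N) : ∃ g : M ⟶ N, Nonempty (Homotopy (p ≫ g) f) := by
  have : IsIso (homologyMap p (-1)) := inferInstance
  let dK : kernel (p.f (-1)) ⟶ kernel (p.f 0) :=
    kernel.map _ _ (P.d (-1) 0) (M.d (-1) 0) (p.comm _ _)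
  have hdK : dK ≫ kernel.ι (p.f 0) = kernel.ι (p.f (-1)) ≫ P.d (-1) 0 := kernel.lift_ι _ _ _
  have : Epi dK := by
    rw [epi_iff_surjective_up_to_refinements]
    intro T k
    obtain ⟨T', e, he, z, hz, hze⟩ := kill_zero p (k ≫ kernel.ι (p.f 0)) (by simp)
    refine ⟨T', e, he, kernel.lift _ z hz, ?_⟩
    rw [← cancel_mono (kernel.ι (p.f 0)), Category.assoc, Category.assoc, hdK, hze, kernel.lift_ι_assoc]
  have hcond : kernel.ι dK ≫ kernel.ι (p.f (-1)) ≫ f.f (-1) = 0 := by
    obtain ⟨T, e, _, u, hu⟩ := (mono_homologyMap_iff_up_to_refinements p (-2) (-1) 0 (by simp) (by simp)).1 inferInstance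
      (kernel.ι dK ≫ kernel.ι (p.f (-1))) (by rw [Category.assoc, ← hdK, kernel.condition_assoc, zero_comp])
      0 (by simp)
    rw [← cancel_epi e, comp_zero, ← Category.assoc (kernel.ι dK), ← Category.assoc e, hu, Category.assoc, ← f.comm,
      (N.isZero_of_isStrictlyGE (-1) (-2) (by omega)).eq_of_tgt (f.f (-2)) 0, zero_comp, comp_zero]
  let t := Abelian.epiDesc dK (kernel.ι (p.f (-1)) ≫ f.f (-1)) hcond
  have ht : dK ≫ t = kernel.ι (p.f (-1)) ≫ f.f (-1) := Abelian.comp_epiDesc _ _ _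
  let s := Projective.factorThru (𝟙 (M.X 0)) (p.f 0)
  let r : P.X 0 ⟶ kernel (p.f 0) := kernel.lift _ (𝟙 _ - p.f 0 ≫ s) (by simp [s, Preadditive.sub_comp])
  have hr : kernel.ι (p.f 0) ≫ r = 𝟙 _ := by
    rw [← cancel_mono (kernel.ι (p.f 0))]
    simp [r, Preadditive.comp_sub]
  let f' := f - Homotopy.nullHomotopicMap' (hcomp (r ≫ t))
  have hf : ∀ n, kernel.ι (p.f n) ≫ f'.f n = 0 := by
    intro n
    by_cases h0 : n = 0
    · subst h0
      simp only [f', sub_f_apply, nullMap_zero, Preadditive.comp_sub, Category.assoc, reassoc_of% hr]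
      rw [sub_eq_zero, ← cancel_epi dK, reassoc_of% hdK, reassoc_of% ht, f.comm]
    by_cases h1 : n = -1
    · subst h1
      simp only [f', sub_f_apply, nullMap_neg, Preadditive.comp_sub, ← reassoc_of% hdK, reassoc_of% hr, ht, sub_self]
    by_cases hn : 0 < n
    · exact ((P.isZero_of_isStrictlyLE 0 n hn).eq_of_src (f'.f n) 0).symm ▸ comp_zero
    · exact (N.isZero_of_isStrictlyGE (-1) n (by omega)).eq_of_tgt _ _
  let g : M ⟶ N :=
    { f := fun n => Abelian.epiDesc (p.f n) (f'.f n) (hf n)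
      comm' := fun i j _ => by
        rw [← cancel_epi (p.f i), Abelian.comp_epiDesc_assoc, f'.comm, p.comm_assoc, Abelian.comp_epiDesc] }
  refine ⟨g, ⟨?_⟩⟩
  have hg : p ≫ g = f' := by ext n; exact Abelian.comp_epiDesc _ _ _
  exact (Homotopy.ofEq hg).trans (Homotopy.equivSubZero.symm ((Homotopy.ofEq
    (show f - f' = Homotopy.nullHomotopicMap' (hcomp (r ≫ t)) by simp [f'])).trans
      (Homotopy.nullHomotopy' (hcomp (r ≫ t))))).symm

end

variable [HasDerivedCategory.{w} A] [EnoughProjectives A]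

theorem qh_bijective (M N : CochainComplex A ℤ) [M.IsStrictlyLE 0] [N.IsStrictlyGE (-1)] [Projective (M.X 0)] :
    Function.Bijective (fun φ : (HomotopyCategory.quotient A (ComplexShape.up ℤ)).obj M ⟶
      (HomotopyCategory.quotient A (ComplexShape.up ℤ)).obj N => DerivedCategory.Qh.map φ) := by
  obtain ⟨P, p, hP, hPp, hpe, hq⟩ := Groth.L00.ClassResLeft.exists_res (fun Y : A => Projective Y)
    ⟨0, Limits.isZero_zero A, (Limits.isZero_zero A).projective⟩
    (fun X => ⟨Projective.over X, Projective.π X, inferInstance, inferInstance⟩) M 0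
  have : ∀ n, Projective (P.X n) := hPp
  have : P.IsKProjective := CochainComplex.isKProjective_of_projective P 0
  let q := (HomotopyCategory.quotient A (ComplexShape.up ℤ))
  have : IsIso (DerivedCategory.Qh.map (q.map p)) :=
    (NatIso.isIso_map_iff (DerivedCategory.quotientCompQhIso A) p).2 inferInstance
  have hb := CochainComplex.IsKProjective.Qh_map_bijective P (q.obj N)
  constructor
  · intro a b hab
    dsimp at hab
    obtain ⟨g, rfl⟩ := q.map_surjective a
    obtain ⟨g', rfl⟩ := q.map_surjective b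
    have h : q.map (p ≫ g) = q.map (p ≫ g') := hb.1 (by simp [hab, q.map_comp])
    obtain ⟨H⟩ := precomp_injective p (g - g') ((Homotopy.ofEq (by rw [Preadditive.comp_sub])).trans
      (Homotopy.equivSubZero (HomotopyCategory.homotopyOfEq _ _ h)))
    exact HomotopyCategory.eq_of_homotopy _ _ (Homotopy.equivSubZero.symm H)
  · intro x
    obtain ⟨y, hy⟩ := hb.2 (DerivedCategory.Qh.map (q.map p) ≫ x)
    obtain ⟨f, rfl⟩ := q.map_surjective y
    obtain ⟨g, ⟨H⟩⟩ := precomp_surjective p f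
    refine ⟨q.map g, ?_⟩
    change DerivedCategory.Qh.map (q.map g) = x
    rw [← cancel_epi (DerivedCategory.Qh.map (q.map p)), ← Functor.map_comp, ← q.map_comp]
    exact (congrArg _ (HomotopyCategory.eq_of_homotopy _ _ H)).trans hy

end Groth.L10.TwoTerm
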